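import Groth.Agent.L05.EulerDiv.Divis
import Groth.Agent.L21.RR.ProjLineRecog
import Groth.Agent.L21.P1.Coh

/-!
Integral proper curves of genus zero with a module of minimal degree are projective lines over their constants.
-/

set_option autoImplicit false
set_option backward.isDefEq.respectTransparency false
set_option linter.style.haveILetI false
set_option linter.unusedSectionVars false
universe u

open CategoryTheory CategoryTheory.Limits AlgebraicGeometry TopologicalSpace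

noncomputable section

namespace Groth.L05.ExcCurve

open Groth.L05.InterPair Groth.L05.EulerDiv
open Groth.L21.RR (h)

/-- Dimensions do not change along a bijection of scalars. -/
theorem finrank_eq_of_bijective {A B M N : Type u} [CommRing A] [CommRing B] [AddCommGroup M] {iM : Module A M}
    [AddCommGroup N] {iN : Module B N} (φ : A →+* B) (hφ : Function.Bijective φ) (j : M ≃+ N)
    (hj : ∀ (a : A) (m : M), j (a • m) = φ a • j m) : Module.finrank A M = Module.finrank B N := by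
  rw [Module.finrank, Module.finrank, rank_eq_of_equiv_equiv φ j hφ hj]

variable (κ : Type u) [Field κ] {Y : Scheme.{u}} [Y.Over (Spec (CommRingCat.of κ))]
  [IsProper (Y ↘ Spec (CommRingCat.of κ))] [IsIntegral Y]

/-- The map to the spectrum of the constants. -/
def sΓ (Y : Scheme.{u}) : Y ⟶ Spec (CommRingCat.of Γ(Y, ⊤)) := Y.toSpecΓ

theorem toGlobal_sΓ (Y : Scheme.{u}) (a : Γ(Y, ⊤)) : Coh.toGlobal (sΓ Y) a = a := by
  show (Y.toSpecΓ.appTop) ((Scheme.ΓSpecIso Γ(Y, ⊤)).inv a) = a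
  rw [Scheme.toSpecΓ_appTop]
  exact congr($((Scheme.ΓSpecIso Γ(Y, ⊤)).inv_hom_id) a)

include κ in
/-- A scheme over the field is proper over its constants. -/
theorem isProper_sΓ : IsProper (sΓ Y) := by
  let φ : CommRingCat.of κ ⟶ Γ(Y, ⊤) :=
    (Scheme.ΓSpecIso (CommRingCat.of κ)).inv ≫ (Y ↘ Spec (CommRingCat.of κ)).appTop
  have h : sΓ Y ≫ Spec.map φ = Y ↘ Spec (CommRingCat.of κ) := by
    refine ext_of_isAffine ?_
    show (Y.toSpecΓ ≫ Spec.map φ).appTop = _
    rw [Scheme.Hom.comp_appTop, Scheme.toSpecΓ_appTop, Scheme.ΓSpecIso_naturality φ]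
    simp [φ]
  haveI : IsProper (sΓ Y ≫ Spec.map φ) := h ▸ inferInstance
  haveI : IsSeparated (Spec.map φ) := inferInstance
  exact IsProper.of_comp (sΓ Y) (Spec.map φ)

/-- Dimensions over the ground field are multiples of dimensions over the constants. -/
theorem finrank_eq_mul (M : Y.Modules) (i : ℕ) :
    letI : Field Γ(Y, ⊤) := (isField_Γtop κ).toField
    Module.finrank κ (Coh.HH Y M i) =
      Module.finrank κ (Coh.HH Y (Coh.structureModule Y) 0) *
        @h Y Γ(Y, ⊤) _ ⟨sΓ Y⟩ i M := by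
  classical
  let s := Y ↘ Spec (CommRingCat.of κ)
  letI : Field Γ(Y, ⊤) := (isField_Γtop κ).toField
  letI : Algebra κ Γ(Y, ⊤) := ((s.appTop).hom.comp (Scheme.ΓSpecIso (CommRingCat.of κ)).inv.hom).toAlgebra
  letI : Module Γ(Y, ⊤) (Coh.HH Y M i) := inferInstanceAs (Module (Coh.Γtop Y) (Coh.HH Y M i))
  let hT : IsTerminal (⊤ : TopologicalSpace.Opens Y) :=
    IsTerminal.ofUniqueHom (fun U => homOfLE le_top) (fun _ _ => rfl)
  let F := Coh.toAb (Coh.structureModule Y)
  let e : Coh.HH Y (Coh.structureModule Y) 0 ≃+ Γ(Y, ⊤) := Sheaf.H.equiv₀ F hT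
  have he : ∀ (c : κ) x, e (c • x) = c • e x := fun c x => by
    show _ = (s.appTop).hom ((Scheme.ΓSpecIso (CommRingCat.of κ)).inv.hom c) * e x
    show Sheaf.H.equiv₀ F hT (Sheaf.H.map (Coh.smulAb (Coh.structureModule Y) _) 0 x) = _
    rw [← Sheaf.H.equiv₀_naturality]
    refine (Coh.smulAb_app (Coh.structureModule Y) _ (Opposite.op ⊤) _).trans ?_
    show Coh.resTop Y (Opposite.op ⊤) _ * _ = _
    congr 1
    simp [Coh.resTop, s]
    rfl
  let el : Coh.HH Y (Coh.structureModule Y) 0 ≃ₗ[κ] Γ(Y, ⊤) := { e with map_smul' := he }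
  haveI : IsScalarTower κ Γ(Y, ⊤) (Coh.HH Y M i) := IsScalarTower.of_algebraMap_smul fun _ _ => rfl
  rw [el.finrank_eq, ← Module.finrank_mul_finrank κ Γ(Y, ⊤) (Coh.HH Y M i)]
  congr 1
  letI : Y.Over (Spec (CommRingCat.of Γ(Y, ⊤))) := ⟨sΓ Y⟩
  refine finrank_eq_of_bijective (RingHom.id _) Function.bijective_id (AddEquiv.refl _)
    fun a m => ?_
  exact (congrArg (fun c : Coh.Γtop Y => c • m) (toGlobal_sΓ Y a)).symm

variable (hd : topologicalKrullDim Y = 1)

include hd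

theorem curveDeg_eq_mul (N : Y.Modules) :
    letI : Field Γ(Y, ⊤) := (isField_Γtop κ).toField
    ArSurf.curveDeg κ Y N = (Module.finrank κ (Coh.HH Y (Coh.structureModule Y) 0) : ℤ) *
      (((@h Y Γ(Y, ⊤) _ ⟨sΓ Y⟩ 0 N : ℤ) - @h Y Γ(Y, ⊤) _ ⟨sΓ Y⟩ 1 N) -
        ((@h Y Γ(Y, ⊤) _ ⟨sΓ Y⟩ 0 (Coh.structureModule Y) : ℤ) -
          @h Y Γ(Y, ⊤) _ ⟨sΓ Y⟩ 1 (Coh.structureModule Y))) := by
  letI : Field Γ(Y, ⊤) := (isField_Γtop κ).toField
  rw [curveDeg_eq_euler κ hd, Groth.L21.RR.euler_eq κ hd.le, Groth.L21.RR.euler_eq κ hd.le]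
  have a0 := congrArg (Nat.cast : ℕ → ℤ) (finrank_eq_mul κ N 0)
  have a1 := congrArg (Nat.cast : ℕ → ℤ) (finrank_eq_mul κ N 1)
  have b0 := congrArg (Nat.cast : ℕ → ℤ) (finrank_eq_mul κ (Coh.structureModule Y) 0)
  have b1 := congrArg (Nat.cast : ℕ → ℤ) (finrank_eq_mul κ (Coh.structureModule Y) 1)
  simp only [Nat.cast_mul] at a0 a1 b0 b1
  simp only [h] at *
  linear_combination a0 - a1 - b0 + b1

/-- Genus zero and a module of degree `dim H⁰(O)` give a projective line. -/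
theorem exists_projLine {N : Y.Modules} (hN : PicF.IsInvertible N)
    (h1 : Module.finrank κ (Coh.HH Y (Coh.structureModule Y) 1) = 0)
    (hdeg : ArSurf.curveDeg κ Y N = (Module.finrank κ (Coh.HH Y (Coh.structureModule Y) 0) : ℤ)) :
    ∃ (k : Type u) (_ : Field k) (e : CohB1.ProjSpace 1 k ≅ Y),
      Nonempty ((Scheme.Modules.pullback e.hom).obj N ≅ Twist.twistProjSpace 1 k 1) := by
  letI : Field Γ(Y, ⊤) := (isField_Γtop κ).toField
  haveI := Groth.L21.RR.isNoetherian_of_proper (X := Y) κ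
  haveI := Groth.L21.RR.finite_HH' (k := κ) (Groth.L16.CohClosedPush.isCoh_structure (X := Y)) 1
  have hw := (h0_dvd κ (Y := Y)).1
  haveI hs : Subsingleton (Coh.HH Y (Coh.structureModule Y) 1) := Module.finrank_zero_iff.1 h1
  letI : Y.Over (Spec (CommRingCat.of Γ(Y, ⊤))) := ⟨sΓ Y⟩
  haveI : IsProper (Y ↘ Spec (CommRingCat.of Γ(Y, ⊤))) := isProper_sΓ κ
  have hdeg' : Curv2.deg Γ(Y, ⊤) Y N 1 = 1 := by
    rw [curveDeg_eq_mul κ hd] at hdeg
    rw [Curv2.deg, Groth.L21.RR.euler_eq _ hd.le, Groth.L21.RR.euler_eq _ hd.le, Nat.cast_one, one_mul]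
    exact (mul_right_eq_self₀.1 hdeg).resolve_right (by exact_mod_cast hw.ne')
  obtain ⟨e, -, ⟨i⟩⟩ := Groth.L21.RR.exists_iso_projLine Γ(Y, ⊤) hd hs hN hdeg'
  exact ⟨Γ(Y, ⊤), inferInstance, e.symm, ⟨(Scheme.Modules.pullback e.inv).mapIso i.symm ≪≫
    (Scheme.Modules.pullbackComp e.inv e.hom).app _ ≪≫ (Scheme.Modules.pullbackCongr e.inv_hom_id).app _ ≪≫
    (Scheme.Modules.pullbackId _).app _⟩⟩

/-- The invariants of a projective line. -/
theorem invariants_of_projLine {N : Y.Modules} (hN : PicF.IsInvertible N) {k : Type u} [Field k]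
    (e : CohB1.ProjSpace 1 k ≅ Y)
    (i : (Scheme.Modules.pullback e.hom).obj N ≅ Twist.twistProjSpace 1 k 1) :
    Module.finrank κ (Coh.HH Y (Coh.structureModule Y) 1) = 0 ∧
      ArSurf.curveDeg κ Y N = (Module.finrank κ (Coh.HH Y (Coh.structureModule Y) 0) : ℤ) := by
  letI : Field Γ(Y, ⊤) := (isField_Γtop κ).toField
  let P := CohB1.ProjSpace 1 k
  haveI := Groth.L21.RR.isNoetherian_of_proper (X := Y) κ
  letI : P.Over (Spec (CommRingCat.of k)) := ⟨CohB1.ProjSpace.toSpec 1 k⟩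
  obtain ⟨e0⟩ := Groth.L16.ProjTwist.nonempty_twist_zero_iso (CohB1.polyGrading 1 k)
  have hO0 : h k 0 (Coh.structureModule P) = 1 :=
    ((Groth.L21.RR.h_congr k (show Groth.L21.P1.O k 0 ≅ Coh.structureModule P from e0) 0).symm.trans
      (Groth.L21.P1.h_O k 0).1).trans rfl
  have hO1 : h k 1 (Coh.structureModule P) = 0 :=
    ((Groth.L21.RR.h_congr k (show Groth.L21.P1.O k 0 ≅ Coh.structureModule P from e0) 1).symm.trans
      (Groth.L21.P1.h_O k 0).2).trans rfl
  -- the constants of the projective line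
  let φ : k →+* Γ(P, ⊤) := (CohB1.ProjSpace.toSpec 1 k).appTop.hom.comp
    (Scheme.ΓSpecIso (CommRingCat.of k)).inv.hom
  have hφ : Function.Bijective φ := by
    letI : Algebra k Γ(P, ⊤) := φ.toAlgebra
    haveI : Nontrivial Γ(P, ⊤) := e.inv.appTop.hom.domain_nontrivial
    let el : Coh.HH P (Coh.structureModule P) 0 ≃ₗ[k] Γ(P, ⊤) :=
      { Groth.L21.RR.e0 (Coh.structureModule P) with
        map_smul' := fun c x => by
          show Sheaf.H.equiv₀ _ _ (Sheaf.H.map (Coh.smulAb (Coh.structureModule P) _) 0 x) = φ c * _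
          rw [← Sheaf.H.equiv₀_naturality]
          refine (Coh.smulAb_app (Coh.structureModule P) _ (Opposite.op ⊤) _).trans ?_
          show Coh.resTop P (Opposite.op ⊤) _ * _ = _
          congr 1
          all_goals simp [Coh.resTop]
          all_goals rfl }
    refine ⟨φ.injective, fun y => ?_⟩
    obtain ⟨c, hc⟩ := exists_smul_eq_of_finrank_eq_one (el.finrank_eq.symm.trans hO0)
      (one_ne_zero (α := Γ(P, ⊤))) y
    exact ⟨c, by rw [← hc, Algebra.smul_def, mul_one]; rfl⟩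
  -- comparison over the constants of `Y`
  letI : Y.Over (Spec (CommRingCat.of Γ(Y, ⊤))) := ⟨sΓ Y⟩
  letI : P.Over (Spec (CommRingCat.of Γ(Y, ⊤))) := ⟨e.hom ≫ sΓ Y⟩
  haveI : Y.IsSeparated := ⟨by rw [← terminal.comp_from (Y ↘ Spec (CommRingCat.of κ))]; infer_instance⟩
  have key : ∀ (M : Y.Modules), PicF.IsInvertible M → ∀ p : ℕ,
      h Γ(Y, ⊤) p M = h k p ((Scheme.Modules.pullback e.hom).obj M) := by
    intro M hM p
    letI iY : Module Γ(Y, ⊤) (Coh.HH Y M p) := Coh.moduleOver Γ(Y, ⊤) Y M p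
    obtain ⟨g⟩ := exists_HH_push (A := Γ(Y, ⊤)) (Z := P) (W := Y) e.hom ((Scheme.Modules.pullback e.hom).obj M)
      (Groth.L16.ProperFinite.isCoh_of_isInvertible (Groth.L18.Ample.isInvertible_pullback e.hom hM)).1 rfl p
    let u : (Coh.push e.hom).obj ((Scheme.Modules.pullback e.hom).obj M) ≅ M :=
      (Coh.push e.hom).mapIso ((Groth.L19.Conormal.pullbackIsoPush e).app M) ≪≫
        (Scheme.Modules.pushforwardComp e.inv e.hom).app M ≪≫
        (Scheme.Modules.pushforwardCongr e.inv_hom_id).app M ≪≫ (Scheme.Modules.pushforwardId _).app M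
    let G := (g.trans (hhIso (A := Γ(Y, ⊤)) u p)).symm
    let ψ : Γ(Y, ⊤) →+* Γ(P, ⊤) := e.hom.appTop.hom
    have hψ : Function.Bijective ψ := ConcreteCategory.bijective_of_isIso e.hom.appTop
    let eφ := RingEquiv.ofBijective φ hφ
    refine finrank_eq_of_bijective (eφ.symm.toRingHom.comp ψ) (eφ.symm.bijective.comp hψ)
      G.toAddEquiv fun a m => (G.map_smul a m).trans ?_
    have h0 : (show Coh.Γtop P from φ (eφ.symm (ψ a))) = (show Coh.Γtop P from Coh.toGlobal (e.hom ≫ sΓ Y) a) := by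
      refine (eφ.apply_symm_apply (ψ a)).trans ?_
      show e.hom.appTop a = (e.hom ≫ sΓ Y).appTop _
      rw [Scheme.Hom.comp_appTop]
      exact congrArg e.hom.appTop (toGlobal_sΓ Y a).symm
    exact congrArg (fun c : Coh.Γtop P => c • G m) h0.symm
  have hO : ∀ p, h Γ(Y, ⊤) p (Coh.structureModule Y) = h k p (Coh.structureModule P) := fun p =>
    (key _ (Groth.L18.Ample.isInvertible_structureModule Y) p).trans
      (Groth.L21.RR.h_congr k (Groth.L29.LocFree.pullbackUnitIso e.hom) p)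
  have hNk : ∀ p, h Γ(Y, ⊤) p N = h k p (Groth.L21.P1.O k 1) := fun p =>
    (key _ hN p).trans (Groth.L21.RR.h_congr k i p)
  constructor
  · rw [finrank_eq_mul κ, hO, hO1, mul_zero]
  · rw [curveDeg_eq_mul κ hd, hNk, hNk, hO, hO, hO0, hO1, (Groth.L21.P1.h_O k 1).1, (Groth.L21.P1.h_O k 1).2]
    norm_num

end Groth.L05.ExcCurve
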